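import Cfsg.Agent.H79.GlaubermanThompson

/-!
Axiomatic families of abelian subgroups for the Glauberman-Thompson criterion.
-/

set_option autoImplicit false
set_option linter.style.haveILetI false

namespace H75.AxGT

open Subgroup
open scoped commutatorElement

variable {G : Type*} [Group G]

/-- The intersection of the members of a family contained in `Q`. -/
def famI (𝒜 : Set (Subgroup G)) (Q : Subgroup G) : Subgroup G :=
  ⨅ A ∈ {A : Subgroup G | A ∈ 𝒜 ∧ A ≤ Q}, A

theorem mem_famI {𝒜 : Set (Subgroup G)} {Q : Subgroup G} {x : G} :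
    x ∈ famI 𝒜 Q ↔ ∀ A ∈ 𝒜, A ≤ Q → x ∈ A := by
  simp only [famI, Subgroup.mem_iInf, Set.mem_setOf_eq, and_imp]

theorem famI_le_of_mem {𝒜 : Set (Subgroup G)} {Q A : Subgroup G} (hA : A ∈ 𝒜) (hAQ : A ≤ Q) :
    famI 𝒜 Q ≤ A := fun _ hx => mem_famI.1 hx A hA hAQ

theorem famI_le_self {𝒜 : Set (Subgroup G)} {Q : Subgroup G} (h : ∃ A ∈ 𝒜, A ≤ Q) :
    famI 𝒜 Q ≤ Q := by
  obtain ⟨A, hA, hAQ⟩ := h
  exact (famI_le_of_mem hA hAQ).trans hAQ

theorem famI_anti {𝒜 : Set (Subgroup G)} {Q Q' : Subgroup G} (h : Q ≤ Q') :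
    famI 𝒜 Q' ≤ famI 𝒜 Q :=
  fun _ hx => mem_famI.2 fun A hA hAQ => mem_famI.1 hx A hA (hAQ.trans h)

theorem famI_eq_iInf {𝒜 : Set (Subgroup G)} {S : Subgroup G} (h : ∀ A ∈ 𝒜, A ≤ S) :
    famI 𝒜 S = ⨅ A ∈ 𝒜, A := by
  ext x
  simp only [mem_famI, Subgroup.mem_iInf]
  exact ⟨fun hx A hA => hx A hA (h A hA), fun hx A hA _ => hx A hA⟩

/-- A family of abelian subgroups of `S`, invariant and with the replacement property. -/
structure FamHyp (S : Subgroup G) (𝒜 : Set (Subgroup G)) : Prop where
  le : ∀ A ∈ 𝒜, A ≤ S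
  comm : ∀ A ∈ 𝒜, IsMulCommutative A
  ne : 𝒜.Nonempty
  inv : ∀ Q : Subgroup G, Q ≤ S → (∃ A ∈ 𝒜, A ≤ Q) → ∀ g ∈ normalizer (Q : Set G),
    ∀ x ∈ famI 𝒜 Q, g * x * g⁻¹ ∈ famI 𝒜 Q
  rep : ∀ B : Subgroup G, B ≤ S → ⁅⁅B, B⁆, B⁆ = ⊥ → (∃ A ∈ 𝒜, ⁅B, B⁆ ≤ A ∧ ¬ B ≤ A) →
    ∃ A ∈ 𝒜, ⁅B, B⁆ ≤ A ∧ ¬ B ≤ A ∧ B ≤ normalizer (A : Set G)

theorem FamHyp.exists_le {S : Subgroup G} {𝒜 : Set (Subgroup G)} (h : FamHyp S 𝒜) :
    ∃ A ∈ 𝒜, A ≤ S := by
  obtain ⟨A, hA⟩ := h.ne
  exact ⟨A, hA, h.le A hA⟩

/-- Pulling a family back along an injective map. -/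
theorem famI_comap {X : Type*} [Group X] (f : X →* G) {𝒜 : Set (Subgroup G)}
    (hr : ∀ A ∈ 𝒜, A ≤ f.range) (Q : Subgroup X) (hf : Function.Injective f) :
    famI ((fun A => A.comap f) '' 𝒜) Q = (famI 𝒜 (Q.map f)).comap f := by
  ext x
  rw [mem_comap, mem_famI, mem_famI, Set.forall_mem_image]
  refine forall₂_congr fun A hA => ?_
  have h : A.comap f ≤ Q ↔ A ≤ Q.map f := by
    constructor
    · intro h a ha
      obtain ⟨y, rfl⟩ := hr A hA ha
      exact ⟨y, h ha, rfl⟩
    · intro h y hy
      obtain ⟨z, hz, hzy⟩ := h hy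
      exact hf hzy ▸ hz
  rw [h, mem_comap]

/-- The family seen inside a subgroup containing `S`. -/
theorem FamHyp.pull {S : Subgroup G} {𝒜 : Set (Subgroup G)} (h : FamHyp S 𝒜) {M : Subgroup G}
    (hSM : S ≤ M) :
    FamHyp (S.subgroupOf M) ((fun A => A.comap M.subtype) '' 𝒜) := by
  have hr : ∀ A ∈ 𝒜, A ≤ M.subtype.range := fun A hA => by
    rw [range_subtype]; exact (h.le A hA).trans hSM
  have hmap : ∀ A ∈ 𝒜, (A.comap M.subtype).map M.subtype = A := fun A hA =>
    map_comap_eq_self (hr A hA)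
  refine ⟨?_, ?_, h.ne.image _, ?_, ?_⟩
  · rintro _ ⟨A, hA, rfl⟩
    exact comap_mono (h.le A hA)
  · rintro _ ⟨A, hA, rfl⟩
    exact H11.isMulCommutative_of_commute fun x hx y hy =>
      Subtype.ext (H11.comm_of_mulCommutative (h.comm A hA) hx hy).eq
  · intro Q hQ hex g hg x hx
    rw [famI_comap _ hr Q M.subtype_injective] at hx ⊢
    refine mem_comap.2 ?_
    have hQS : Q.map M.subtype ≤ S := map_le_iff_le_comap.2 hQ
    obtain ⟨_, ⟨A, hA, rfl⟩, hAQ⟩ := hex
    exact h.inv _ hQS ⟨A, hA, (hmap A hA).symm.le.trans (map_mono hAQ)⟩ _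
      (le_normalizer_map M.subtype ⟨g, hg, rfl⟩) _ hx
  · intro B hB hcl hex
    have hBS : B.map M.subtype ≤ S := map_le_iff_le_comap.2 hB
    obtain ⟨_, ⟨A, hA, rfl⟩, hA1, hA2⟩ := hex
    obtain ⟨A', hA', h1, h2, h3⟩ := h.rep (B.map M.subtype) hBS
      (by rw [← map_commutator, ← map_commutator, hcl, Subgroup.map_bot])
      ⟨A, hA, by rw [← map_commutator]; exact map_le_iff_le_comap.2 hA1,
        fun hle => hA2 (map_le_iff_le_comap.1 hle)⟩
    refine ⟨_, ⟨A', hA', rfl⟩, ?_, fun hle => h2 (map_le_iff_le_comap.2 hle), fun b hb => ?_⟩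
    · rw [← map_commutator] at h1
      exact map_le_iff_le_comap.1 h1
    · exact le_normalizer_comap M.subtype (h3 ⟨b, hb, rfl⟩)

theorem iInf_pull {S : Subgroup G} {𝒜 : Set (Subgroup G)} (M : Subgroup G) :
    (⨅ A ∈ ((fun A => A.comap M.subtype) '' 𝒜), A) = (⨅ A ∈ 𝒜, A).comap M.subtype := by
  rw [iInf_image, comap_iInf]
  exact iInf_congr fun A => (comap_iInf _ _).symm

/-- A Glauberman-type core: the intersection of the family is normal. -/
theorem fam_core [Finite G] {p : ℕ} [Fact p.Prime]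
    (hc : centralizer (Cfsg.pCore p G : Set G) ≤ Cfsg.pCore p G)
    (hst : ∀ (N : Subgroup G) [N.Normal], IsPGroup p N → Cfsg.IsPStableOn p N)
    (S : Sylow p G) {𝒜 : Set (Subgroup G)} (h : FamHyp (S : Subgroup G) 𝒜) :
    (⨅ A ∈ 𝒜, A).Normal := by
  rw [← famI_eq_iInf h.le]
  set Z := famI 𝒜 (S : Subgroup G) with hZdef
  have hZle : ∀ A ∈ 𝒜, Z ≤ A := fun A hA => famI_le_of_mem hA (h.le A hA)
  have hZc : IsMulCommutative Z := by
    obtain ⟨A, hA⟩ := h.ne
    exact H11.isMulCommutative_of_le (h.comm A hA) (hZle A hA)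
  have hSZ : (S : Subgroup G) ≤ normalizer (Z : Set G) := fun s hs =>
    H11.mem_normalizer_of_forall (h.inv _ le_rfl h.exists_le s (le_normalizer hs))
  have hQS : Cfsg.pCore p G ≤ (S : Subgroup G) := H1.pCore_le_sylow S
  have hQn := H1.pCore_normal' p G
  have hQp := H1.isPGroup_pCore p G
  have hZQ : Z ≤ Cfsg.pCore p G := by
    intro a ha
    have hq : ⁅⁅Cfsg.pCore p G, zpowers a⁆, zpowers a⁆ = ⊥ := by
      have hle : ⁅Cfsg.pCore p G, zpowers a⁆ ≤ Z := by
        rw [Subgroup.commutator_le]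
        intro q hq x hx
        have hxZ : x ∈ Z := zpowers_le.mpr ha hx
        rw [commutatorElement_def]
        exact mul_mem (H11.conj_mem_of_mem_normalizer (hSZ (hQS hq)) hxZ) (inv_mem hxZ)
      rw [eq_bot_iff]
      refine (commutator_mono hle (zpowers_le.mpr ha)).trans ?_
      rw [Subgroup.commutator_le]
      intro x hx y hy
      rw [mem_bot, commutatorElement_eq_one_iff_mul_comm]
      exact (H11.comm_of_mulCommutative hZc hx hy).eq
    have hh := hst (Cfsg.pCore p G) hQp a hq
    have hn' := H1.pCore_normal' p (G ⧸ centralizer (Cfsg.pCore p G : Set G))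
    exact H1.le_pCore
      ((H1.isPGroup_pCore p (G ⧸ centralizer (Cfsg.pCore p G : Set G))).comap_of_ker_isPGroup
        (QuotientGroup.mk' (centralizer (Cfsg.pCore p G : Set G)))
        (by rw [QuotientGroup.ker_mk']; exact hQp.to_le hc)) (show a ∈ _ from hh)
  suffices H : ∀ n : ℕ, ∀ B : Subgroup G, B.Normal → IsPGroup p B → Nat.card B ≤ n →
      (B ⊓ Z).Normal by
    have := H _ _ hQn hQp le_rfl
    rwa [inf_eq_right.mpr hZQ] at this
  intro n
  induction n with
  | zero => intro B _ _ hh; exact absurd hh (not_le.mpr Nat.card_pos)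
  | succ n ih =>
    intro B hBn hBp hBc
    set B1 := normalClosure ((B ⊓ Z : Subgroup G) : Set G) with hB1
    have hB1B : B1 ≤ B := normalClosure_le_normal inf_le_left
    by_cases hB1eq : B1 = B
    swap
    · have hlt : Nat.card B1 < Nat.card B :=
        lt_of_not_ge fun hge => hB1eq (eq_of_le_of_card_ge hB1B hge)
      have := ih B1 normalClosure_normal (hBp.to_le hB1B) (by omega)
      have heq : B1 ⊓ Z = B ⊓ Z :=
        le_antisymm (inf_le_inf_right Z hB1B) (le_inf le_normalClosure inf_le_right)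
      rwa [heq] at this
    by_cases hBbot : B = ⊥
    · rw [hBbot, bot_inf_eq]; infer_instance
    have hBS : B ≤ (S : Subgroup G) := hBp.le_sylow_of_normal S
    have hB'lt : ⁅B, B⁆ < B := by
      have : Nontrivial B := (nontrivial_iff_ne_bot B).mpr hBbot
      have : Group.IsNilpotent B := hBp.isNilpotent
      have hh := Group.IsSolvable.commutator_lt_top_of_nontrivial (G := B)
      have h2 := (map_lt_map_iff_of_injective B.subtype_injective).mpr hh
      rwa [commutator_def, map_commutator, ← MonoidHom.range_eq_map, range_subtype] at h2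
    set T := ⁅B, B⁆ ⊓ Z with hTdef
    have hTn : T.Normal := by
      refine ih _ (commutator_normal B B) (hBp.to_le hB'lt.le) ?_
      have : Nat.card ↥⁅B, B⁆ < Nat.card B :=
        lt_of_not_ge fun hge => hB'lt.ne (eq_of_le_of_card_ge hB'lt.le hge)
      omega
    have hB'Z : ⁅B, B⁆ ≤ Z := by
      have : (B.map (QuotientGroup.mk' T)).Normal :=
        hBn.map _ (QuotientGroup.mk'_surjective T)
      have hM : ((centralizer ((B.map (QuotientGroup.mk' T) : Subgroup (G ⧸ T)) :
          Set (G ⧸ T))).comap (QuotientGroup.mk' T)).Normal := inferInstance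
      have hle : B1 ≤ (centralizer ((B.map (QuotientGroup.mk' T) : Subgroup (G ⧸ T)) :
          Set (G ⧸ T))).comap (QuotientGroup.mk' T) := by
        refine normalClosure_le_normal ?_
        intro x hx
        rw [SetLike.mem_coe, mem_comap, mem_centralizer_iff]
        rintro _ ⟨y, hy, rfl⟩
        rw [← commutatorElement_eq_one_iff_mul_comm, ← map_commutatorElement,
          QuotientGroup.mk'_apply, QuotientGroup.eq_one_iff]
        refine mem_inf.mpr ⟨commutator_mem_commutator hy hx.1, ?_⟩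
        rw [commutatorElement_def]
        exact mul_mem (H11.conj_mem_of_mem_normalizer (hSZ (hBS hy)) hx.2) (inv_mem hx.2)
      rw [hB1eq] at hle
      refine (?_ : ⁅B, B⁆ ≤ T).trans inf_le_right
      rw [Subgroup.commutator_le]
      intro x hx y hy
      have := hle hy
      rw [mem_comap, mem_centralizer_iff] at this
      rw [← QuotientGroup.eq_one_iff, ← QuotientGroup.mk'_apply, map_commutatorElement,
        commutatorElement_eq_one_iff_mul_comm]
      exact this _ ⟨x, hx, rfl⟩
    have hcl : ⁅⁅B, B⁆, B⁆ = ⊥ := by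
      have hle : B1 ≤ centralizer ((⁅B, B⁆ : Subgroup G) : Set G) := by
        refine normalClosure_le_normal fun x hx => mem_centralizer_iff.mpr fun y hy => ?_
        exact (H11.comm_of_mulCommutative hZc (hB'Z hy) hx.2).eq
      rw [hB1eq] at hle
      rw [commutator_comm]
      exact commutator_eq_bot_iff_le_centralizer.mpr hle
    by_cases hall : ∀ U ∈ 𝒜, B ≤ U
    · rw [inf_eq_left.mpr (fun x hx => mem_famI.2 fun U hU _ => hall U hU hx)]
      exact hBn
    push Not at hall
    obtain ⟨U, hU, hUB⟩ := hall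
    obtain ⟨A, hA, -, hAB, hAn⟩ := h.rep B hBS hcl ⟨U, hU, hB'Z.trans (hZle U hU), hUB⟩
    exfalso
    apply hAB
    set C := centralizer (B : Set G) with hC
    have hCn : C.Normal := inferInstance
    set L := (Cfsg.pCore p (G ⧸ C)).comap (QuotientGroup.mk' C) with hL
    have hLn : L.Normal := (H1.pCore_normal' p (G ⧸ C)).comap _
    have hAL : A ≤ L := by
      intro a ha
      refine hst B hBp a ?_
      have hle : ⁅B, zpowers a⁆ ≤ A := by
        rw [Subgroup.commutator_le]
        intro y hy x hx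
        have hxA : x ∈ A := zpowers_le.mpr ha hx
        rw [commutatorElement_def]
        exact mul_mem (H11.conj_mem_of_mem_normalizer (hAn hy) hxA) (inv_mem hxA)
      rw [eq_bot_iff]
      refine (commutator_mono hle (zpowers_le.mpr ha)).trans ?_
      rw [Subgroup.commutator_le]
      intro x hx y hy
      rw [mem_bot, commutatorElement_eq_one_iff_mul_comm]
      exact (H11.comm_of_mulCommutative (h.comm A hA) hx hy).eq
    have hCL : C ≤ L := by
      conv_lhs => rw [← QuotientGroup.ker_mk' C]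
      exact ker_le_comap (f := QuotientGroup.mk' C) (Cfsg.pCore p (G ⧸ C))
    set U' := (S : Subgroup G) ⊓ L with hU'def
    have hCTL : C ⊔ U' = L := by
      refine le_antisymm (sup_le hCL inf_le_right) (relIndex_eq_one.mp ?_)
      have h1 : (C ⊔ U').relIndex L ∣ C.relIndex L := relIndex_dvd_of_le_left L le_sup_left
      have h2 : (C ⊔ U').relIndex L ∣ U'.relIndex L := relIndex_dvd_of_le_left L le_sup_right
      obtain ⟨k, hk⟩ : ∃ k, C.relIndex L = p ^ k := by
        obtain ⟨k, hk⟩ := IsPGroup.iff_card.mp (H1.isPGroup_pCore p (G ⧸ C))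
        refine ⟨k, ?_⟩
        have := relIndex_ker (K := L) (QuotientGroup.mk' C)
        rw [QuotientGroup.ker_mk'] at this
        rw [this, hL, map_comap_eq_self_of_surjective (QuotientGroup.mk'_surjective C)]
        exact hk
      exact Nat.eq_one_of_dvd_coprimes (Nat.Coprime.pow_right k (Nat.Coprime.symm
          ((Fact.out : p.Prime).coprime_iff_not_dvd.mpr (H11.not_dvd_inf_relIndex_of_normal S L))))
        h2 (hk ▸ h1)
    have hNT := H11.normalizer_inf_sup_eq_top S L
    have hAU : A ≤ U' := le_inf (h.le A hA) hAL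
    set Z1 := famI 𝒜 U' with hZ1
    have hN : normalizer (U' : Set G) ≤ normalizer (Z1 : Set G) := fun g hg =>
      H11.mem_normalizer_of_forall (h.inv U' inf_le_left ⟨A, hA, hAU⟩ g hg)
    have hK : (B ⊓ Z1).Normal := by
      rw [← normalizer_eq_top_iff, eq_top_iff, ← hNT]
      refine sup_le ?_ ?_
      · intro g hg
        exact H11.mem_normalizer_of_forall fun x hx =>
          ⟨hBn.conj_mem x hx.1 g, H11.conj_mem_of_mem_normalizer (hN hg) hx.2⟩
      · rw [← hCTL]
        refine sup_le ?_ ?_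
        · intro g hg
          refine H11.mem_normalizer_of_forall fun x hx => ?_
          rw [← mem_centralizer_iff.mp hg x hx.1, mul_inv_cancel_right]
          exact hx
        · intro g hg
          exact H11.mem_normalizer_of_forall fun x hx =>
            ⟨hBn.conj_mem x hx.1 g, H11.conj_mem_of_mem_normalizer (hN (le_normalizer hg)) hx.2⟩
    have hBK : B1 ≤ B ⊓ Z1 :=
      normalClosure_le_normal fun x hx => ⟨hx.1, famI_anti inf_le_left hx.2⟩
    rw [hB1eq] at hBK
    exact (hBK.trans inf_le_right).trans (famI_le_of_mem hA hAU)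

universe u

/-- The group-theoretic reduction: the model is a `p`-group. -/
theorem isPGroup_of_fam {p : ℕ} [Fact p.Prime] (hp : p ≠ 2) :
    ∀ (n : ℕ) (G : Type u) [Group G] [Finite G], Nat.card G ≤ n →
      ∀ (S : Sylow p G) (R : Subgroup G) [R.Normal], IsPGroup p R →
      centralizer (R : Set G) ≤ R →
      (∀ X : Subgroup G, R < X → X ≤ (S : Subgroup G) →
        (S : Subgroup G) ≤ normalizer (X : Set G) → IsPGroup p ↥(normalizer (X : Set G))) →
      ∀ 𝒜 : Set (Subgroup G), FamHyp (S : Subgroup G) 𝒜 →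
      IsPGroup p ↥(normalizer ((⨅ A ∈ 𝒜, A : Subgroup G) : Set G)) → IsPGroup p G := by
  classical
  intro n
  induction n with
  | zero => intro G _ _ hn; exact absurd (Nat.card_pos (α := G)) (by omega)
  | succ n ih =>
  intro G _ _ hn S R _ hR hc hX 𝒜 h hI
  have hdone : (⨅ A ∈ 𝒜, A : Subgroup G).Normal → IsPGroup p G := fun hnI => by
    rw [normalizer_eq_top_iff.mpr hnI] at hI
    exact hI.of_equiv topEquiv
  have hRS : R ≤ (S : Subgroup G) := hR.le_sylow_of_normal S
  by_cases hSR : (S : Subgroup G) ≤ R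
  · refine hdone ⟨fun x hx g => ?_⟩
    rw [← famI_eq_iInf h.le] at hx ⊢
    refine h.inv _ le_rfl h.exists_le g ?_ x hx
    rw [le_antisymm hSR hRS]
    exact normalizer_eq_top R ▸ mem_top g
  have hover : ∀ M : Subgroup G, M ≠ ⊤ → (S : Subgroup G) ≤ M → IsPGroup p M := by
    intro M hM hSM
    have hcard : Nat.card M ≤ n := by
      have := lt_of_le_of_ne (card_le_card_group M) fun e => hM (eq_top_of_card_eq M e)
      omega
    have hRM : R ≤ M := hRS.trans hSM
    have hmapR : (R.subgroupOf M).map M.subtype = R := map_subgroupOf_eq_of_le hRM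
    refine ih M hcard (S.subtype hSM) (R.subgroupOf M)
      (hR.comap_of_injective M.subtype M.subtype_injective) ?_ ?_
      ((fun A => A.comap M.subtype) '' 𝒜) (by rw [Sylow.coe_subtype]; exact h.pull hSM) ?_
    · intro g hg
      refine hc (mem_centralizer_iff.mpr fun r hr => ?_)
      exact congrArg Subtype.val (mem_centralizer_iff.mp hg ⟨r, hRM hr⟩ hr)
    · intro X hX1 hX2 hX3
      rw [Sylow.coe_subtype] at hX2 hX3
      have h1 : R < X.map M.subtype := by
        rw [← hmapR]; exact (map_lt_map_iff_of_injective M.subtype_injective).mpr hX1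
      have h2 : X.map M.subtype ≤ (S : Subgroup G) := map_le_iff_le_comap.2 hX2
      have h3 : (S : Subgroup G) ≤ normalizer ((X.map M.subtype : Subgroup G) : Set G) := by
        rw [← map_subgroupOf_eq_of_le hSM]
        exact (map_mono hX3).trans (le_normalizer_map _)
      refine ((hX _ h1 h2 h3).comap_of_injective M.subtype M.subtype_injective).to_le ?_
      exact map_le_iff_le_comap.1 (le_normalizer_map _)
    · rw [iInf_pull (S := (S : Subgroup G))]
      refine (hI.comap_of_injective M.subtype M.subtype_injective).to_le ?_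
      refine map_le_iff_le_comap.1 ((le_normalizer_map _).trans ?_)
      obtain ⟨A, hA⟩ := h.ne
      rw [map_comap_eq_self (by
        rw [range_subtype]
        exact (iInf₂_le A hA).trans ((h.le A hA).trans hSM))]
  set π := QuotientGroup.mk' R with hπ
  have hπs : Function.Surjective π := QuotientGroup.mk'_surjective R
  set P' := S.mapSurjective hπs with hP'
  have hP'coe : (P' : Subgroup (G ⧸ R)) = (S : Subgroup G).map π := Sylow.coe_mapSurjective _ _
  have hq : Cfsg.HasNormalPComplement p (G ⧸ R) := by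
    refine H79.hasNormalPComplement_of_ZJ hp true _ _ le_rfl P' (P' : Subgroup (G ⧸ R))
      ⟨le_rfl, fun x _ g hg => hg⟩ ?_
    set W := H79.ZJ p true (P' : Subgroup (G ⧸ R)) with hW
    have hW1 : W ≠ ⊥ := H79.ZJ_ne_bot P'.isPGroup' fun e => hSR (by
      rw [hP'coe, Subgroup.map_eq_bot_iff, QuotientGroup.ker_mk'] at e; exact e)
    have hRX : R < W.comap π := by
      refine lt_of_le_of_ne (by
        conv_lhs => rw [← QuotientGroup.ker_mk' R]
        exact ker_le_comap (f := π) W) fun e => hW1 ?_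
      rw [← map_comap_eq_self_of_surjective hπs W, ← e, Subgroup.map_eq_bot_iff,
        QuotientGroup.ker_mk']
    have hXS : W.comap π ≤ (S : Subgroup G) := by
      refine (comap_mono (H79.ZJ_le _)).trans ?_
      rw [hP'coe, comap_map_eq, QuotientGroup.ker_mk']
      exact sup_le le_rfl hRS
    have hSX : (S : Subgroup G) ≤ normalizer ((W.comap π : Subgroup G) : Set G) := by
      refine le_trans ?_ (le_normalizer_comap π)
      rw [← map_le_iff_le_comap, ← hP'coe]
      exact le_normalizer.trans (H79.ZJ_normalizer_le _)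
    refine H5.hasNormalPComplement_of_isPGroup ?_
    have := (hX _ hRX hXS hSX).map π
    rw [← comap_normalizer_eq_of_surjective W hπs,
      map_comap_eq_self_of_surjective hπs] at this
    exact this
  set K' := Cfsg.pResidual p (G ⧸ R) with hK'
  have hK'c : (Nat.card K').Coprime p := by
    rw [Nat.coprime_comm, (Fact.out : p.Prime).coprime_iff_not_dvd]
    exact H5.hasNormalPComplement_iff_not_dvd.mp hq
  have hmin : ∀ L : Subgroup (G ⧸ R), L ≤ K' →
      (P' : Subgroup (G ⧸ R)) ≤ normalizer (L : Set (G ⧸ R)) → L ≠ K' → L = ⊥ := by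
    intro L hL hLN hLne
    set M := (L ⊔ (P' : Subgroup (G ⧸ R))).comap π with hM
    have hSM : (S : Subgroup G) ≤ M := by
      rw [hM, ← map_le_iff_le_comap, ← hP'coe]
      exact le_sup_right
    have hMtop : M ≠ ⊤ := by
      intro e
      refine hLne (le_antisymm hL fun k hk => ?_)
      have hk' : k ∈ L ⊔ (P' : Subgroup (G ⧸ R)) := by
        obtain ⟨g, rfl⟩ := hπs k
        exact (e ▸ mem_top g : g ∈ M)
      obtain ⟨l, hl, s, hs, rfl⟩ := H1.exists_mul_of_mem_sup hLN hk'
      have hs1 : s = 1 := H79.inf_eq_one_of_coprime hK'c P'.isPGroup'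
        ((mul_mem_cancel_left (hL hl)).mp hk) hs
      rwa [hs1, mul_one]
    have hLp : IsPGroup p L := ((hover M hMtop hSM).map π).to_le (by
      rw [hM, map_comap_eq_self_of_surjective hπs]; exact le_sup_left)
    exact eq_bot_iff.mpr fun x hx =>
      mem_bot.mpr (H79.inf_eq_one_of_coprime hK'c hLp (hL hx) hx)
  have hK'ab : ⁅K', K'⁆ = ⊥ := by
    by_cases hK'1 : K' = ⊥
    · rw [hK'1]; exact eq_bot_iff.mpr (commutator_le_self ⊥)
    set q := (Nat.card K').minFac with hqdef
    have hcard : Nat.card K' ≠ 1 := fun e => hK'1 (eq_bot_of_card_eq _ e)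
    haveI : Fact q.Prime := ⟨Nat.minFac_prime hcard⟩
    obtain ⟨a, ha⟩ := IsPGroup.iff_card.mp P'.isPGroup'
    obtain ⟨T, hT⟩ := H1.exists_invariant_sylow (A := (P' : Subgroup (G ⧸ R))) (K := K')
      (H79.le_normalizer_of_conj_mem fun g _ x hx => Subgroup.Normal.conj_mem inferInstance x hx g)
      (ha ▸ hK'c.symm.pow_left a) (Or.inl (H79.isSolvable_pGroup P'.isPGroup')) q
    have hT' : (T : Subgroup K').map K'.subtype = K' := by
      by_contra hne
      have h1 := hmin _ (map_subtype_le _) hT hne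
      rw [map_eq_bot_iff_of_injective _ K'.subtype_injective] at h1
      refine T.not_dvd_index ?_
      rw [h1, index_bot]
      exact Nat.minFac_dvd _
    have hKq : IsPGroup q K' := hT' ▸ T.isPGroup'.map _
    have hnil : Group.IsNilpotent K' := hKq.isNilpotent
    haveI : Nontrivial K' := (nontrivial_iff_ne_bot K').mpr hK'1
    have hlt : commutator K' < ⊤ := Group.IsSolvable.commutator_lt_top_of_nontrivial (G := K')
    refine hmin _ (commutator_le_self K') ?_ ?_
    · rw [normalizer_eq_top]; exact le_top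
    · intro e
      rw [← map_subtype_commutator K'] at e
      refine hlt.ne (eq_top_iff.mpr fun x _ => ?_)
      obtain ⟨y, hy, hyx⟩ := e.ge x.2
      exact Subtype.ext hyx ▸ hy
  haveI : (K'.comap π).Normal := Subgroup.Normal.comap inferInstance π
  have hst : ∀ (N : Subgroup G) [N.Normal], IsPGroup p N → Cfsg.IsPStableOn p N :=
    fun N _ hN => H79.isPStableOn_of_abelian_complement hp (Nat.card G) G le_rfl R (K'.comap π) hR
      (by
        have h1 : (⁅K'.comap π, K'.comap π⁆).map π = ⊥ := by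
          rw [map_commutator, map_comap_eq_self_of_surjective hπs, hK'ab]
        rwa [Subgroup.map_eq_bot_iff, QuotientGroup.ker_mk'] at h1)
      (Nat.card K') hK'c
      (fun k hk => by
        rw [← QuotientGroup.eq_one_iff]
        show π (k ^ Nat.card K') = 1
        rw [map_pow]
        exact congrArg Subtype.val (pow_card_eq_one' (G := K') (x := ⟨π k, hk⟩)))
      (fun g => by
        obtain ⟨j, hj⟩ := H5.isPGroup_quotient_pResidual (G := G ⧸ R) (p := p) (QuotientGroup.mk (π g))
        refine ⟨j, ?_⟩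
        rw [← QuotientGroup.mk_pow, QuotientGroup.eq_one_iff, ← map_pow] at hj
        exact hj)
      N hN
  refine hdone (fam_core ?_ hst S h)
  have hRQ : R ≤ Cfsg.pCore p G := H1.le_pCore hR
  exact ((centralizer_le hRQ).trans hc).trans hRQ

end H75.AxGT
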