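import Cfsg.Agent.H75.AxGT.Family
import Cfsg.Agent.H88.GTCriterion

/-!
The axiomatic Glauberman-Thompson criterion for fusion systems.
-/

set_option autoImplicit false
set_option linter.style.haveILetI false

open Cfsg Cfsg.FusionSystem
open scoped commutatorElement

universe u

namespace H75.AxGT

variable {Ω : Type u} [Group Ω] {S : Subgroup Ω} {p : ℕ}

/-- In a model, the normalizer of a subgroup with trivial stabilizing automorphisms is a `p`-group. -/
theorem stab_normalizer_isPGroup [Finite S] [Fact p.Prime] (hS : IsPGroup p S) {E : FusionSystem S}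
    {G : Type u} [Group G] [Finite G] {ι : S →* G} (hreal : E.IsRealizedBy ι)
    {R : Subgroup Ω} (hRS : R ≤ S) (hRn : S ≤ Subgroup.normalizer (R : Set Ω))
    (hnR : (H85.rimg ι R).Normal)
    (hcR : Subgroup.centralizer (H85.rimg ι R : Set G) ≤ H85.rimg ι R)
    {W : Subgroup Ω} (hWS : W ≤ S) (hSW : S ≤ Subgroup.normalizer (W : Set Ω))
    (hst : H88.StabTrivial p E W) :
    IsPGroup p ↥(Subgroup.normalizer (H85.rimg ι W : Set G)) := by
  have hι := hreal.1
  have hpi : IsPGroup p ι.range := hS.of_surjective _ ι.rangeRestrict_surjective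
  refine H88.isPGroup_of_coprime_trivial fun g hg => Subtype.ext ?_
  rw [← Subgroup.orderOf_coe] at hg
  set P0 := R ⊔ W with hP0
  have hP0S : P0 ≤ S := sup_le hRS hWS
  have hrimg : H85.rimg ι P0 = H85.rimg ι R ⊔ H85.rimg ι W := by
    rw [H85.rimg, H85.rimg, H85.rimg, ← Subgroup.map_sup, Subgroup.subgroupOf_sup hRS hWS]
  have hgP : (g : G) ∈ Subgroup.normalizer (H85.rimg ι P0 : Set G) := by
    rw [hrimg]
    exact H88.mem_normalizer_sup ((Subgroup.normalizer_eq_top (H := H85.rimg ι R)).ge trivial) g.2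
  obtain ⟨φ, hφ, hφS, hφg⟩ := H85.exists_hom_of_conj hreal hP0S g fun x =>
    H85.rimg_le_range ι P0 (H85.conj_mem_of_mem_normalizer hgP
      ((H85.apply_mem_rimg hι).2 x.2))
  haveI : Finite P0 := H85.finite_of_le hP0S
  have hφr : φ.range = P0 := by
    refine Subgroup.eq_of_le_of_card_ge ?_ (le_of_eq (Nat.card_congr
      (MonoidHom.ofInjective (E.injective_of_mem hφ)).toEquiv))
    rintro y ⟨x, rfl⟩
    have := H85.conj_mem_of_mem_normalizer hgP
      ((H85.apply_mem_rimg hι (x := ⟨x, hP0S x.2⟩)).2 x.2)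
    rw [← hφg x] at this
    exact (H85.apply_mem_rimg hι).1 this
  set a : MulAut P0 := H85.isoOf φ hφ hφr with ha
  have hpow : ∀ (n : ℕ) (x : P0), ι ⟨((a ^ n) x : P0), hP0S ((a ^ n) x).2⟩ =
      (g : G) ^ n * ι ⟨x, hP0S x.2⟩ * ((g : G) ^ n)⁻¹ := by
    intro n
    induction n with
    | zero => intro x; simp
    | succ n ih =>
      intro x
      have h1 : (a ^ (n + 1)) x = a ((a ^ n) x) := by rw [pow_succ', MulAut.mul_apply]
      have h2 : ι ⟨(a ((a ^ n) x) : P0), hP0S (a _).2⟩ =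
          (g : G) * ι ⟨((a ^ n) x : P0), hP0S ((a ^ n) x).2⟩ * (g : G)⁻¹ := hφg _
      rw [pow_succ' (g : G) n, mul_inv_rev]
      simp only [h1]
      rw [h2, ih]
      group
  have hac : (orderOf a).Coprime p := by
    refine Nat.Coprime.coprime_dvd_left (orderOf_dvd_of_pow_eq_one ?_) hg
    refine MulEquiv.ext fun x => Subtype.ext ?_
    have := hpow (orderOf (g : G)) x
    rw [pow_orderOf_eq_one, one_mul, inv_one, mul_one] at this
    exact (congrArg Subtype.val (hι this) :)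
  have hP0W : P0 ≤ normalizerIn S W := le_inf hP0S (hP0S.trans hSW)
  have ha1 : a = 1 := hst P0 le_sup_right hP0W a
    ((H85.mem_autGroup hP0S).2 (H85.isFIso_isoOf φ hφ hφr)) hac fun x hx => by
      have h1 := hφg x
      have h2 := H85.conj_mem_of_mem_normalizer g.2
        ((H85.apply_mem_rimg hι (x := ⟨x, hP0S x.2⟩)).2 hx)
      rw [← h1] at h2
      exact (H85.apply_mem_rimg hι).1 h2
  have hgc : (g : G) ∈ Subgroup.centralizer (H85.rimg ι R : Set G) := by
    rw [Subgroup.mem_centralizer_iff]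
    intro y hy
    obtain ⟨x, hx, rfl⟩ := H85.mem_rimg.1 hy
    have h1 := hpow 1 ⟨x, Subgroup.mem_sup_left hx⟩
    rw [ha1, one_pow, MulAut.one_apply, pow_one] at h1
    nth_rewrite 1 [show ι x = (g : G) * ι x * (g : G)⁻¹ from h1]
    group
  exact H11.eq_one_of_mem_pGroup_coprime (hpi.to_le (H85.rimg_le_range ι R)) (hcR hgc) hg

/-- The family carried into a model. -/
theorem famHyp_model [Finite S] [Fact p.Prime] {E : FusionSystem S} {F : FusionSystem S}
    (hle : ∀ P : Subgroup Ω, E.autGroup P ≤ F.autGroup P)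
    {G : Type u} [Group G] [Finite G] {ι : S →* G} (hreal : E.IsRealizedBy ι)
    {𝒜 : Set (Subgroup Ω)} (h𝒜 : ∀ A ∈ 𝒜, A ≤ S ∧ IsMulCommutative ↥A) (hne : 𝒜.Nonempty)
    (hinv : ∀ Q : Subgroup Ω, Q ≤ S → (∃ A ∈ 𝒜, A ≤ Q) → ∀ α ∈ F.autGroup Q, ∀ x : ↥Q,
      (x : Ω) ∈ famI 𝒜 Q → (((α : MulAut ↥Q) x : ↥Q) : Ω) ∈ famI 𝒜 Q)
    (hrep : ∀ B : Subgroup Ω, B ≤ S → ⁅⁅B, B⁆, B⁆ = ⊥ → (∃ A ∈ 𝒜, ⁅B, B⁆ ≤ A ∧ ¬ B ≤ A) →
      ∃ A ∈ 𝒜, ⁅B, B⁆ ≤ A ∧ ¬ B ≤ A ∧ B ≤ Subgroup.normalizer (A : Set Ω)) :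
    FamHyp ι.range (H85.rimg ι '' 𝒜) ∧
      (⨅ A ∈ H85.rimg ι '' 𝒜, A) = H85.rimg ι (⨅ A ∈ 𝒜, A) := by
  have hι := hreal.1
  -- preimages of subgroups of the image
  have hmem : ∀ {A : Subgroup Ω}, A ∈ 𝒜 → ∀ {y : G}, y ∈ H85.rimg ι A →
      ∃ x : S, (x : Ω) ∈ A ∧ ι x = y := by
    intro A _ y hy
    exact H85.mem_rimg.1 hy
  have hback : ∀ (B : Subgroup G) (x : S), (x : Ω) ∈ (B.comap ι).map S.subtype ↔ ι x ∈ B := by
    intro B x
    exact (Subgroup.mem_map_iff_mem S.subtype_injective).trans Subgroup.mem_comap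
  have hsub : ∀ (B : Subgroup G), (B.comap ι).map S.subtype ≤ S := fun B =>
    Subgroup.map_subtype_le _
  have himg : ∀ (B : Subgroup G), B ≤ ι.range → ∀ (A : Subgroup Ω), A ∈ 𝒜 →
      (H85.rimg ι A ≤ B ↔ A ≤ (B.comap ι).map S.subtype) := by
    intro B hB A hA
    constructor
    · intro h x hx
      exact (hback B ⟨x, (h𝒜 A hA).1 hx⟩).2 (h ((H85.apply_mem_rimg hι).2 hx))
    · intro h y hy
      obtain ⟨x, hx, rfl⟩ := hmem hA hy
      exact (hback B x).1 (h hx)
  have hI : ∀ (B : Subgroup G) (x : S), B ≤ ι.range →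
      (ι x ∈ famI (H85.rimg ι '' 𝒜) B ↔ (x : Ω) ∈ famI 𝒜 ((B.comap ι).map S.subtype)) := by
    intro B x hB
    rw [mem_famI, mem_famI, Set.forall_mem_image]
    refine forall₂_congr fun A hA => ?_
    rw [himg B hB A hA, H85.apply_mem_rimg hι]
  refine ⟨⟨?_, ?_, hne.image _, ?_, ?_⟩, ?_⟩
  · rintro _ ⟨A, -, rfl⟩
    exact H85.rimg_le_range ι A
  · rintro _ ⟨A, hA, rfl⟩
    refine H11.isMulCommutative_of_commute fun y hy z hz => ?_
    obtain ⟨x, hx, rfl⟩ := hmem hA hy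
    obtain ⟨w, hw, rfl⟩ := hmem hA hz
    rw [← map_mul, ← map_mul,
      show x * w = w * x from Subtype.ext (H11.comm_of_mulCommutative (h𝒜 A hA).2 hx hw).eq]
  · intro B hB hex g hg y hy
    obtain ⟨_, ⟨A, hA, rfl⟩, hAB⟩ := hex
    obtain ⟨x, rfl⟩ : y ∈ ι.range := hB (famI_le_self ⟨_, Set.mem_image_of_mem _ hA, hAB⟩ hy)
    set Q := (B.comap ι).map S.subtype with hQ
    have hQS : Q ≤ S := hsub B
    haveI : Finite Q := H85.finite_of_le hQS
    obtain ⟨φ, hφ, hφS, hφg⟩ := H85.exists_hom_of_conj hreal hQS g fun z =>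
      hB (H85.conj_mem_of_mem_normalizer hg ((hback B ⟨z, hQS z.2⟩).1 z.2))
    have hφr : φ.range = Q := by
      refine Subgroup.eq_of_le_of_card_ge ?_ (le_of_eq (Nat.card_congr
        (MonoidHom.ofInjective (E.injective_of_mem hφ)).toEquiv))
      rintro w ⟨z, rfl⟩
      have := H85.conj_mem_of_mem_normalizer hg ((hback B ⟨z, hQS z.2⟩).1 z.2)
      rw [← hφg z] at this
      exact (hback B _).2 this
    have hxQ : (x : Ω) ∈ Q :=
      famI_le_self ⟨A, hA, (himg B hB A hA).1 hAB⟩ ((hI B x hB).1 hy)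
    have h1 := hinv Q hQS ⟨A, hA, (himg B hB A hA).1 hAB⟩ (H85.isoOf φ hφ hφr)
      (hle Q ((H85.mem_autGroup hQS).2 (H85.isFIso_isoOf φ hφ hφr))) ⟨x, hxQ⟩
      ((hI B x hB).1 hy)
    rw [H85.isoOf_apply] at h1
    have h2 := (hI B _ hB).2 (show ((⟨φ ⟨x, hxQ⟩, hφS ⟨x, hxQ⟩⟩ : S) : Ω) ∈ _ from h1)
    rwa [hφg ⟨x, hxQ⟩] at h2
  · intro B hB hcl hex
    set B₀ := B.comap ι with hB₀
    have hBeq : B₀.map ι = B := Subgroup.map_comap_eq_self hB
    have hcl₀ : ⁅⁅B₀, B₀⁆, B₀⁆ = ⊥ := by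
      apply (Subgroup.map_eq_bot_iff_of_injective _ hι).1
      rw [Subgroup.map_commutator, Subgroup.map_commutator, hBeq, hcl]
    have hcomm : ∀ A : Subgroup Ω, (⁅B₀.map S.subtype, B₀.map S.subtype⁆ ≤ A ↔
        ⁅B, B⁆ ≤ H85.rimg ι A) := by
      intro A
      rw [← Subgroup.map_commutator, ← hBeq, ← Subgroup.map_commutator]
      constructor
      · rintro h _ ⟨z, hz, rfl⟩
        exact (H85.apply_mem_rimg hι).2 (h ⟨z, hz, rfl⟩)
      · rintro h _ ⟨z, hz, rfl⟩
        exact (H85.apply_mem_rimg hι).1 (h ⟨z, hz, rfl⟩)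
    have hle' : ∀ A : Subgroup Ω, (B₀.map S.subtype ≤ A ↔ B ≤ H85.rimg ι A) := by
      intro A
      rw [← hBeq]
      constructor
      · rintro h _ ⟨z, hz, rfl⟩
        exact (H85.apply_mem_rimg hι).2 (h ⟨z, hz, rfl⟩)
      · rintro h _ ⟨z, hz, rfl⟩
        exact (H85.apply_mem_rimg hι).1 (h ⟨z, hz, rfl⟩)
    obtain ⟨_, ⟨A, hA, rfl⟩, hA1, hA2⟩ := hex
    obtain ⟨A', hA', h1, h2, h3⟩ := hrep (B₀.map S.subtype) (hsub B)
      (by rw [← Subgroup.map_commutator, ← Subgroup.map_commutator, hcl₀, Subgroup.map_bot])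
      ⟨A, hA, (hcomm A).2 hA1, fun h => hA2 ((hle' A).1 h)⟩
    refine ⟨_, ⟨A', hA', rfl⟩, (hcomm A').1 h1, fun h => h2 ((hle' A').2 h), ?_⟩
    rw [← hBeq]
    rintro _ ⟨b, hb, rfl⟩
    refine H11.mem_normalizer_of_forall fun y hy => ?_
    obtain ⟨z, hz, rfl⟩ := hmem hA' hy
    rw [← map_inv, ← map_mul, ← map_mul]
    refine (H85.apply_mem_rimg hι).2 ?_
    exact H85.conj_mem_of_mem_normalizer (h3 ⟨b, hb, rfl⟩) hz
  · ext y
    simp only [Subgroup.mem_iInf, Set.forall_mem_image]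
    constructor
    · intro hy
      obtain ⟨A₀, hA₀⟩ := hne
      obtain ⟨x, -, rfl⟩ := hmem hA₀ (hy hA₀)
      refine (H85.apply_mem_rimg hι).2 ?_
      simp only [Subgroup.mem_iInf]
      exact fun A hA => (H85.apply_mem_rimg hι).1 (hy hA)
    · intro hy A hA
      obtain ⟨x, hx, rfl⟩ := H85.mem_rimg.1 hy
      simp only [Subgroup.mem_iInf] at hx
      exact (H85.apply_mem_rimg hι).2 (hx A hA)

/-- If a model is a `p`-group then the system is inner. -/
theorem isPGroup_autGroup_of_model [Finite S] [Fact p.Prime] (hS : IsPGroup p S)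
    {E : FusionSystem S} {G : Type u} [Group G] [Finite G] {ι : S →* G} (hreal : E.IsRealizedBy ι)
    (T : Sylow p G) (hT : (T : Subgroup G) = ι.range) (hGp : IsPGroup p G)
    {P : Subgroup Ω} (hP : P ≤ S) : IsPGroup p (E.autGroup P) := by
  have hι := hreal.1
  have htop : ι.range = ⊤ := by
    rw [← hT]
    exact (T.is_maximal' (hGp.to_subgroup ⊤) le_top).symm
  refine (H85.autInducedBy_isPGroup hS P).to_le fun a ha => ?_
  obtain ⟨g, hg⟩ := H85.exists_conj_of_hom hreal ((H85.mem_autGroup hP).1 ha)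
  obtain ⟨s, rfl⟩ : g ∈ ι.range := htop ▸ Subgroup.mem_top g
  refine H85.mem_autInducedBy.2 ⟨s, s.2, fun x => ?_⟩
  have h1 := hg x
  rw [← map_inv, ← map_mul, ← map_mul] at h1
  exact congrArg Subtype.val (hι h1)

/-- **The axiomatic criterion.** -/
theorem inner_of_axiomatic [Finite S] [Fact p.Prime] (hp : p ≠ 2) (hS : IsPGroup p S)
    {F : FusionSystem S} (hF : F.IsSaturated p) {𝒜 : Set (Subgroup Ω)}
    (h𝒜 : ∀ A ∈ 𝒜, A ≤ S ∧ IsMulCommutative ↥A) (hne : 𝒜.Nonempty)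
    (hinv : ∀ Q : Subgroup Ω, Q ≤ S → (∃ A ∈ 𝒜, A ≤ Q) → ∀ α ∈ F.autGroup Q, ∀ x : ↥Q,
      (x : Ω) ∈ famI 𝒜 Q → (((α : MulAut ↥Q) x : ↥Q) : Ω) ∈ famI 𝒜 Q)
    (hrep : ∀ B : Subgroup Ω, B ≤ S → ⁅⁅B, B⁆, B⁆ = ⊥ → (∃ A ∈ 𝒜, ⁅B, B⁆ ≤ A ∧ ¬ B ≤ A) →
      ∃ A ∈ 𝒜, ⁅B, B⁆ ≤ A ∧ ¬ B ≤ A ∧ B ≤ Subgroup.normalizer (A : Set Ω))
    (hSW : S ≤ Subgroup.normalizer ((⨅ A ∈ 𝒜, A : Subgroup Ω) : Set Ω))
    (hW : H88.StabTrivial p F (⨅ A ∈ 𝒜, A)) :
    ∀ P : Subgroup Ω, F.Hom P = (innerFusionSystem S).Hom P := by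
  classical
  have hWS : (⨅ A ∈ 𝒜, A : Subgroup Ω) ≤ S := by
    obtain ⟨A, hA⟩ := hne
    exact (iInf₂_le A hA).trans (h𝒜 A hA).1
  refine H88.inner_of_pGroup hS hF fun R₀ hR₀ => ?_
  haveI : Finite R₀ := H85.finite_of_le hR₀.1
  haveI : Finite (MulAut R₀) := Finite.of_injective _ DFunLike.coe_injective
  refine H88.isPGroup_of_coprime_trivial fun a₀ ha₀ => by_contra fun hne' => ?_
  rw [← Subgroup.orderOf_coe] at ha₀
  set Bad : Set (Subgroup Ω) :=
    {R | F.IsFullyNormalized R ∧ R ≠ ⊥ ∧ ¬ H88.StabTrivial p F R} with hBad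
  have hBadfin : Bad.Finite := by
    refine Set.Finite.subset (Set.finite_range (fun T : Subgroup S => T.map S.subtype)) ?_
    exact fun Q hQ => ⟨Q.subgroupOf S, Subgroup.map_subgroupOf_eq_of_le hQ.1.1⟩
  have hBadne : Bad.Nonempty := by
    refine ⟨R₀, hR₀, fun h => ?_, fun h => hne' (Subtype.ext ?_)⟩
    · subst h
      exact hne' (Subtype.ext (MulEquiv.ext fun x => Subsingleton.elim _ _))
    · exact h R₀ le_rfl (H85.le_normalizerIn hR₀.1) a₀ a₀.2 ha₀ fun x _ => ((a₀ : MulAut R₀) x).2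
  obtain ⟨R₁, hR₁, hmax₁⟩ :=
    Set.exists_max_image Bad (fun R => Nat.card (normalizerIn S R)) hBadfin hBadne
  obtain ⟨R, hR, hmax₂⟩ := Set.exists_max_image
    {R | R ∈ Bad ∧ Nat.card (normalizerIn S R) = Nat.card (normalizerIn S R₁)} (fun R => Nat.card R)
    (hBadfin.subset fun R h => h.1) ⟨R₁, hR₁, rfl⟩
  obtain ⟨⟨hRn, hR1, hRbad⟩, hRcard⟩ := hR
  have hRS := hRn.1
  haveI : Finite R := H85.finite_of_le hRS
  have hlarger : ∀ X : Subgroup Ω, X ≤ S → X ≠ ⊥ →
      Nat.card (normalizerIn S R) ≤ Nat.card (normalizerIn S X) →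
      (Nat.card (normalizerIn S R) < Nat.card (normalizerIn S X) ∨ Nat.card R < Nat.card X) →
      H88.StabTrivial p F X := by
    intro X hX hX1 hle hor
    obtain ⟨X', hXX', hX'⟩ := H85.exists_fullyNormalized F hX
    refine H88.stabTrivial_of_conj hS hF hX' hXX' (by_contra fun hbad => ?_)
    have h1 : Nat.card (normalizerIn S X) ≤ Nat.card (normalizerIn S X') :=
      hX'.2 X (H85.isConj_symm hXX')
    have hX'1 : X' ≠ ⊥ := fun h => hX1 (by
      have := H85.isConj_card hXX'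
      rw [h, Subgroup.card_bot] at this
      exact (Subgroup.card_eq_one.1 this))
    have h2 := hmax₁ X' ⟨hX', hX'1, hbad⟩
    have h3 : Nat.card (normalizerIn S X') = Nat.card (normalizerIn S R₁) := by omega
    have h4 := hmax₂ X' ⟨⟨hX', hX'1, hbad⟩, h3⟩
    have h5 := H85.isConj_card hXX'
    rcases hor with h | h <;> omega
  have hNS : normalizerIn S R ≤ S := H85.normalizerIn_le R
  haveI : Finite ↥(normalizerIn S R) := H85.finite_of_le hNS
  have hNp := hS.to_le hNS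
  set E := H85.normalizerSystem F R hRS with hEdef
  have hE : F.IsNormalizerSystem R E := H85.normalizerSystem_spec F R hRS
  have hEsat : E.IsSaturated p := H85.isSaturated_normalizerSystem hS hF hRn E hE
  apply hRbad
  by_cases hNlt : normalizerIn S R ≠ S
  · have hlt : Nat.card (normalizerIn S R) < Nat.card S :=
      H89.card_lt_of_lt le_rfl (lt_of_le_of_ne hNS hNlt)
    have hD₁sc : E.StronglyClosed (normalizerIn S R) := ⟨le_rfl, fun _ _ φ hφ x => H85.map_mem hφ x⟩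
    have hD₁ne : (normalizerIn S R) ≠ ⊥ := fun h => hR1 (eq_bot_iff.2 ((H85.le_normalizerIn hRS).trans h.le))
    set W₁ := Cfsg.centerThompsonAOf (normalizerIn S R) with hW₁
    have hW₁ne : W₁ ≠ ⊥ := H88.centerThompsonAOf_ne_bot' hNp hD₁ne
    have hW₁S : W₁ ≤ S := (H88.centerThompsonAOf_le_self (normalizerIn S R)).trans hNS
    have hle : normalizerIn S (normalizerIn S R) ≤ normalizerIn S W₁ :=
      le_inf inf_le_left fun g hg => H88.normalizer_le_normalizer_zj (normalizerIn S R) hg.2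
    haveI : Finite ↥(normalizerIn S W₁) := H85.finite_of_le (H85.normalizerIn_le W₁)
    have hcard : Nat.card (normalizerIn S R) < Nat.card (normalizerIn S W₁) :=
      lt_of_lt_of_le (H89.card_lt_of_lt (H85.normalizerIn_le _)
        (H89.lt_normalizerIn hS hNS hNlt))
        (Nat.card_le_card_of_injective _ (Subgroup.inclusion_injective hle))
    have hst : H88.StabTrivial p F W₁ := hlarger W₁ hW₁S hW₁ne hcard.le (Or.inl hcard)
    have hstE : H88.StabTrivial p E W₁ := fun P hWP hP a ha =>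
      hst P hWP (fun x hx => ⟨hNS (hP hx).1, (hP hx).2⟩) a
        (H88.normalizerSystem_autGroup_le hE ha)
    have hinner := H88.inner_of_stabTrivial_zj hp hNp hEsat hD₁sc hstE
    intro P hRP hP a ha hc hstab
    exact H88.eq_one_of_isPGroup (H88.isPGroup_autGroup_of_inner hNp hinner hP)
      (H88.mem_normalizerSystem_autGroup hE hRP hP ha hstab) hc
  rw [not_not] at hNlt
  have hSR : S ≤ Subgroup.normalizer (R : Set Ω) := fun x hx => (hNlt.ge hx).2
  by_cases hcen : centralizerIn S R ≤ R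
  · -- constrained normalizer system: use a model
    have hRc : F.IsCentric R := H85.centric_of_fullyCentralized hS hF
      (H85.fullyCentralized_of_fullyNormalized hS hF hRn) hcen
    obtain ⟨hEc, hEn, hERc⟩ := H86.normalizerSystem_constrained hS hF hRn hRc hE
    obtain ⟨G, _, ι, hG⟩ := H85.exists_model_of_constrained hNp hEc
    haveI := hG.1
    obtain ⟨-, hreal, ⟨T, hT⟩, -⟩ := id hG
    have hι := hreal.1
    have hnR := H85.model_rimg_normal hG hEn
    have hcR := H85.model_centralizer_le hNp hG hEn hERc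
    have hRN : R ≤ normalizerIn S R := H85.le_normalizerIn hRS
    have hNR : normalizerIn S R ≤ Subgroup.normalizer (R : Set Ω) := inf_le_right
    have hleF : ∀ P : Subgroup Ω, E.autGroup P ≤ F.autGroup P := fun P =>
      H88.normalizerSystem_autGroup_le hE
    have hstE : ∀ {X : Subgroup Ω}, H88.StabTrivial p F X → H88.StabTrivial p E X :=
      fun hX P hWP hP a ha => hX P hWP (fun x hx => ⟨hNS (hP hx).1, (hP hx).2⟩) a (hleF P ha)
    obtain ⟨hfam, hinf⟩ := famHyp_model (p := p) (S := normalizerIn S R) (F := E) (E := E)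
      (fun _ => le_rfl) hreal (fun A hA => ⟨(h𝒜 A hA).1.trans hNlt.ge, (h𝒜 A hA).2⟩) hne
      (fun Q hQ hex α hα x hx => hinv Q (hQ.trans hNS) hex α (hleF Q hα) x hx)
      (fun B hB => hrep B (hB.trans hNS))
    have hGp : IsPGroup p G := by
      haveI := hnR
      refine isPGroup_of_fam hp _ G le_rfl T (H85.rimg ι R)
        ((hNp.of_surjective _ ι.rangeRestrict_surjective).to_le (H85.rimg_le_range ι R)) hcR
        (fun X' hX'1 hX'2 hX'3 => ?_) _ (hT ▸ hfam) ?_
      · rw [hT] at hX'2 hX'3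
        set X := (X'.comap ι).map (normalizerIn S R).subtype with hXdef
        have hback : ∀ x : ↥(normalizerIn S R), (x : Ω) ∈ X ↔ ι x ∈ X' := fun x =>
          (Subgroup.mem_map_iff_mem (Subgroup.subtype_injective _)).trans Subgroup.mem_comap
        have hXN : X ≤ normalizerIn S R := Subgroup.map_subtype_le _
        haveI : Finite X := H85.finite_of_le (hXN.trans hNS)
        have hrX : H85.rimg ι X = X' := by
          ext y
          constructor
          · intro hy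
            obtain ⟨x, hx, rfl⟩ := H85.mem_rimg.1 hy
            exact (hback x).1 hx
          · intro hy
            obtain ⟨x, rfl⟩ := hX'2 hy
            exact (H85.apply_mem_rimg hι).2 ((hback x).2 hy)
        have hRX : R ≤ X := fun r hr =>
          (hback ⟨r, hRN hr⟩).2 (hX'1.le ((H85.apply_mem_rimg hι).2 hr))
        have hRXne : R ≠ X := fun h => hX'1.ne (by rw [← hrX]; exact congrArg (H85.rimg ι) h)
        have hNX : normalizerIn S R ≤ Subgroup.normalizer (X : Set Ω) := by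
          intro s hs
          refine H85.mem_normalizer_of_conj fun x hx => ?_
          have h1 := H85.conj_mem_of_mem_normalizer (hX'3 ⟨⟨s, hs⟩, rfl⟩)
            ((hback ⟨x, hXN hx⟩).1 hx)
          rw [← map_inv, ← map_mul, ← map_mul] at h1
          exact (hback _).2 h1
        rw [← hrX]
        refine stab_normalizer_isPGroup hNp hreal hRN hNR hnR hcR hXN hNX (hstE ?_)
        have hXS := hXN.trans hNS
        refine hlarger X hXS (fun h => hR1 (eq_bot_iff.2 (hRX.trans h.le))) ?_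
          (Or.inr (H89.card_lt_of_lt hXS (lt_of_le_of_ne hRX hRXne)))
        rw [hNlt, show normalizerIn S X = S from inf_eq_left.2 (hNlt.ge.trans hNX)]
      · rw [hinf]
        exact stab_normalizer_isPGroup hNp hreal hRN hNR hnR hcR (hWS.trans hNlt.ge)
          (hNS.trans hSW) (hstE hW)
    intro P hRP hP a ha hc hstab
    exact H88.eq_one_of_isPGroup (isPGroup_autGroup_of_model hNp hreal T hT hGp hP)
      (H88.mem_normalizerSystem_autGroup hE hRP hP ha hstab) hc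
  -- non-centric
  set R' := R ⊔ centralizerIn S R with hR'
  have hR'S : R' ≤ S := sup_le hRS (H85.centralizerIn_le R)
  haveI : Finite R' := H85.finite_of_le hR'S
  have hRR' : Nat.card R < Nat.card R' :=
    H89.card_lt_of_lt hR'S (lt_of_le_of_ne le_sup_left fun h => hcen (le_sup_right.trans h.ge))
  have hSR' : S ≤ Subgroup.normalizer (R' : Set Ω) := by
    intro g hg
    haveI : Finite ↥(centralizerIn S R) := H85.finite_of_le (H85.centralizerIn_le R)
    refine H88.mem_normalizer_sup (hSR hg) (H85.mem_normalizer_of_conj ?_)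
    intro x hx
    refine H85.mem_centralizerIn.2 ⟨mul_mem (mul_mem hg hx.1) (S.inv_mem hg), fun y hy => ?_⟩
    have := (H85.mem_centralizerIn.1 hx).2 _ (H85.conj_mem_of_mem_normalizer' (hSR hg) hy)
    calc y * (g * x * g⁻¹) = g * (g⁻¹ * y * g * x) * g⁻¹ := by group
      _ = g * (x * (g⁻¹ * y * g)) * g⁻¹ := by rw [this]
      _ = g * x * g⁻¹ * y := by group
  have hNR' : normalizerIn S R' = S := inf_eq_left.2 hSR'
  have hstR' : H88.StabTrivial p F R' := hlarger R' hR'S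
    (fun h => hR1 (le_bot_iff.1 (le_sup_left.trans h.le))) (by rw [hNlt, hNR']) (Or.inr hRR')
  have hAutR := H88.coprime_aut_eq_one hS hF hRn hstR'
  have hScl : F.StronglyClosed S := ⟨le_rfl, fun _ _ φ hφ x => H85.map_mem hφ x⟩
  have hSclE : E.StronglyClosed S :=
    ⟨hNlt.ge, fun _ _ φ hφ x => hNS (H85.map_mem hφ x)⟩
  have hnot : ¬ S ≤ R := fun h => hcen ((H85.centralizerIn_le R).trans h)
  obtain ⟨m, hm⟩ : ∃ m, Nat.card S ≤ m + 1 := ⟨Nat.card S, Nat.le_succ _⟩
  intro P hRP hP a ha hc hstab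
  exact H88.eq_one_of_quotient hp (n := m)
    (fun {_} [_] {_} [_] _ hS' _ hF' _ hD' hW' => H88.inner_of_stabTrivial_zj hp hS' hF' hD' hW')
    hm hS hF hScl hRn hR1 hSR hE hEsat hSclE hAutR hnot
    (fun X hX hX1 hNX hRX => hlarger X hX hX1 (by rw [hNlt, hNX]) (Or.inr hRX))
    P hRP hP a ha hc hstab

end H75.AxGT
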